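import Cfsg.Agent.Lib.FischerAut.Model
import Cfsg.Prelude.Def_KGroupFacts

/-!
Automorphisms of a group with a class of transpositions on which it acts (helper71).

* `Model.ofBase`: the model from the centraliser of one transposition
* `Model.apply_mem_range`: automorphisms preserve the class once they send one element into it
* `card_out_one`, `card_out_two`
* `exists_conj_mem_zpowers`: elements of prime order in a group with Sylow subgroups of prime order
-/

set_option autoImplicit false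

namespace Cfsg.Agent.FischerAut

variable {G : Type*} [Group G] {n : ℕ}

/-- the model from a transposition whose centraliser is a point stabiliser -/
noncomputable def Model.ofBase (ρ : G →* Equiv.Perm (Fin n)) (p₀ : Fin n) (z : G) (htr : ∀ i, ∃ g, ρ g p₀ = i)
    (hz : ∀ g, g * z = z * g ↔ ρ g p₀ = p₀) : Model G n where
  ρ := ρ
  d i := (htr i).choose * z * (htr i).choose⁻¹
  trans i j := by
    obtain ⟨a, ha⟩ := htr i
    obtain ⟨b, hb⟩ := htr j
    refine ⟨b * a⁻¹, ?_⟩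
    rw [← ha, ← Equiv.Perm.mul_apply, ← map_mul, inv_mul_cancel_right, hb]
  conj g i := by
    have h : (htr (ρ g i)).choose⁻¹ * (g * (htr i).choose) * z =
        z * ((htr (ρ g i)).choose⁻¹ * (g * (htr i).choose)) := by
      rw [hz, map_mul, Equiv.Perm.mul_apply, map_inv, Equiv.Perm.inv_eq_iff_eq, map_mul, Equiv.Perm.mul_apply,
        (htr i).choose_spec, (htr (ρ g i)).choose_spec]
    set a := (htr (ρ g i)).choose
    set b := (htr i).choose
    calc a * z * a⁻¹ = a * (z * (a⁻¹ * (g * b))) * (g * b)⁻¹ := by group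
      _ = a * (a⁻¹ * (g * b) * z) * (g * b)⁻¹ := by rw [h]
      _ = g * (b * z * b⁻¹) * g⁻¹ := by group
  inj i j hij := by
    have h : ((htr j).choose⁻¹ * (htr i).choose) * z = z * ((htr j).choose⁻¹ * (htr i).choose) := by
      set a := (htr i).choose
      set b := (htr j).choose
      calc b⁻¹ * a * z = b⁻¹ * (a * z * a⁻¹) * a := by group
        _ = b⁻¹ * (b * z * b⁻¹) * a := by rw [show a * z * a⁻¹ = b * z * b⁻¹ from hij]
        _ = z * (b⁻¹ * a) := by group
    rw [hz, map_mul, Equiv.Perm.mul_apply, (htr i).choose_spec, map_inv, Equiv.Perm.inv_eq_iff_eq,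
      (htr j).choose_spec] at h
    exact h

theorem Model.ofBase_d (ρ : G →* Equiv.Perm (Fin n)) (p₀ : Fin n) (z : G) (htr : ∀ i, ∃ g, ρ g p₀ = i)
    (hz : ∀ g, g * z = z * g ↔ ρ g p₀ = p₀) : (Model.ofBase ρ p₀ z htr hz).d p₀ = z := by
  show (htr p₀).choose * z * (htr p₀).choose⁻¹ = z
  rw [(hz _).mpr (htr p₀).choose_spec, mul_inv_cancel_right]

/-- elements of prime order with Sylow subgroups of that order generate conjugate subgroups -/
theorem exists_conj_mem_zpowers [Finite G] {p : ℕ} (hp : p.Prime) (h2 : ¬ p ^ 2 ∣ Nat.card G) {x y : G}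
    (hx : orderOf x = p) (hy : orderOf y = p) : ∃ g, g * y * g⁻¹ ∈ Subgroup.zpowers x := by
  have : Fact p.Prime := ⟨hp⟩
  have hfac : (Nat.card G).factorization p = 1 := by
    have hd : p ∣ Nat.card G := hx ▸ orderOf_dvd_natCard x
    have h1 := (hp.dvd_iff_one_le_factorization Nat.card_pos.ne').mp hd
    by_contra hne
    exact h2 ((hp.pow_dvd_iff_le_factorization Nat.card_pos.ne').mpr (by omega))
  let P : Sylow p G := Sylow.ofCard (Subgroup.zpowers x) (by rw [Nat.card_zpowers, hx, hfac, pow_one])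
  let Q : Sylow p G := Sylow.ofCard (Subgroup.zpowers y) (by rw [Nat.card_zpowers, hy, hfac, pow_one])
  obtain ⟨g, hg⟩ := MulAction.exists_smul_eq G Q P
  refine ⟨g, ?_⟩
  have : MulAut.conj g • y ∈ ((g • Q : Sylow p G) : Subgroup G) := by
    rw [Sylow.coe_subgroup_smul]
    exact Subgroup.smul_mem_pointwise_smul _ _ _ (Subgroup.mem_zpowers y)
  rw [hg] at this
  exact this

namespace Model

variable (M : Model G n)

/-- automorphisms preserve the class once one member goes into it -/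
theorem apply_mem_range (p₀ : Fin n) (φ : MulAut G) (h : φ (M.d p₀) ∈ Set.range M.d) (i : Fin n) :
    φ (M.d i) ∈ Set.range M.d := by
  obtain ⟨g, rfl⟩ := M.trans p₀ i
  obtain ⟨j, hj⟩ := h
  refine ⟨M.ρ (φ g) j, ?_⟩
  rw [M.conj, hj, M.conj, map_mul, map_mul, map_inv]

/-- configuration of an automorphism -/
noncomputable def image (φ : MulAut G) (hφ : ∀ i, φ (M.d i) ∈ Set.range M.d) (p : ℕ → Fin n) (a : ℕ) : Fin n :=
  (hφ (p a)).choose

theorem image_spec (φ : MulAut G) (hφ : ∀ i, φ (M.d i) ∈ Set.range M.d) (p : ℕ → Fin n) (a : ℕ) :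
    M.d (M.image φ hφ p a) = φ (M.d (p a)) := (hφ (p a)).choose_spec

theorem image_valid (φ : MulAut G) (hφ : ∀ i, φ (M.d i) ∈ Set.range M.d) {com : ℕ → ℕ → Bool} {k : ℕ}
    {p : ℕ → Fin n} (hp : M.Valid com k p) : M.Valid com k (M.image φ hφ p) := fun a ha b hb => by
  refine ⟨fun e => (hp a ha b hb).1 (M.inj (φ.injective ?_)), ?_⟩
  · rw [← M.image_spec φ hφ p a, ← M.image_spec φ hφ p b, e]
  · rw [M.adj_iff, M.image_spec, M.image_spec, ← (hp a ha b hb).2, M.adj_iff]
    constructor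
    · intro h
      have := h.map φ.symm.toMonoidHom
      simpa using this
    · exact fun h => h.map φ.toMonoidHom

/-- two automorphisms with equivalent configurations differ by an inner one -/
theorem same_coset {k : ℕ} {p : ℕ → Fin n} (hgen : Subgroup.closure ((fun a => M.d (p a)) '' {a | a < k}) = ⊤)
    (φ ψ : MulAut G) (hφ : ∀ i, φ (M.d i) ∈ Set.range M.d) (hψ : ∀ i, ψ (M.d i) ∈ Set.range M.d)
    (h : M.Equiv' k (M.image φ hφ p) (M.image ψ hψ p)) : (φ : MulAut G ⧸ Cfsg.Inn G) = (ψ : MulAut G ⧸ Cfsg.Inn G) := by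
  obtain ⟨g, hg⟩ := h
  have hmon : ψ.toMonoidHom = (MulAut.conj g * φ).toMonoidHom := by
    refine MonoidHom.eq_of_eqOn_dense hgen ?_
    rintro _ ⟨a, ha, rfl⟩
    show ψ (M.d (p a)) = g * φ (M.d (p a)) * g⁻¹
    rw [← M.image_spec ψ hψ p a, ← hg a ha, M.conj, M.image_spec]
  have heq : ψ = MulAut.conj g * φ := MulEquiv.ext fun x => DFunLike.congr_fun hmon x
  rw [QuotientGroup.eq, heq]
  have := (Cfsg.innNormal G).conj_mem _ ⟨g, rfl⟩ φ⁻¹
  rw [inv_inv] at this
  rwa [← mul_assoc]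

/-- trivial outer automorphism group -/
theorem card_out_one {k : ℕ} {com : ℕ → ℕ → Bool} {p : ℕ → Fin n} (hp : M.Valid com k p)
    (hgen : Subgroup.closure ((fun a => M.d (p a)) '' {a | a < k}) = ⊤)
    (hD : ∀ φ : MulAut G, ∀ i, φ (M.d i) ∈ Set.range M.d) (L : ℕ → Fin n)
    (hL : ∀ q, M.Valid com k q → M.Equiv' k q L) : Nat.card (Cfsg.Out G) = 1 := by
  rw [Nat.card_eq_one_iff_unique]
  refine ⟨⟨fun a b => ?_⟩, ⟨1⟩⟩
  induction a using QuotientGroup.induction_on with | H φ => ?_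
  induction b using QuotientGroup.induction_on with | H ψ => ?_
  exact M.same_coset hgen φ ψ (hD φ) (hD ψ)
    ((hL _ (M.image_valid φ (hD φ) hp)).trans M (hL _ (M.image_valid ψ (hD ψ) hp)).symm)

/-- outer automorphism group of order two -/
theorem card_out_two {k : ℕ} {com : ℕ → ℕ → Bool} {p : ℕ → Fin n} (hp : M.Valid com k p)
    (hgen : Subgroup.closure ((fun a => M.d (p a)) '' {a | a < k}) = ⊤)
    (hD : ∀ φ : MulAut G, ∀ i, φ (M.d i) ∈ Set.range M.d) (L₁ L₂ : ℕ → Fin n)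
    (hL : ∀ q, M.Valid com k q → M.Equiv' k q L₁ ∨ M.Equiv' k q L₂)
    (φ₁ φ₂ : MulAut G) (h₁ : ∀ a < k, φ₁ (M.d (p a)) = M.d (L₁ a)) (h₂ : ∀ a < k, φ₂ (M.d (p a)) = M.d (L₂ a))
    (hne : ¬ M.Equiv' k L₁ L₂) : Nat.card (Cfsg.Out G) = 2 := by
  have e₁ : M.Equiv' k (M.image φ₁ (hD φ₁) p) L₁ :=
    ⟨1, fun a ha => by rw [map_one, Equiv.Perm.one_apply]; exact M.inj ((M.image_spec φ₁ _ p a).trans (h₁ a ha))⟩
  have e₂ : M.Equiv' k (M.image φ₂ (hD φ₂) p) L₂ :=
    ⟨1, fun a ha => by rw [map_one, Equiv.Perm.one_apply]; exact M.inj ((M.image_spec φ₂ _ p a).trans (h₂ a ha))⟩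
  rw [Nat.card_eq_two_iff]
  refine ⟨(φ₁ : MulAut G ⧸ Cfsg.Inn G), (φ₂ : MulAut G ⧸ Cfsg.Inn G), fun h => hne ?_, ?_⟩
  · obtain ⟨g, hg⟩ := QuotientGroup.eq.mp h
    have hφ : φ₂ = φ₁ * MulAut.conj g := by rw [hg, mul_inv_cancel_left]
    refine ⟨φ₁ g, fun a ha => M.inj ?_⟩
    rw [M.conj, ← h₁ a ha, ← h₂ a ha, hφ]
    show _ = φ₁ (g * M.d (p a) * g⁻¹)
    rw [map_mul, map_mul, map_inv]
  · refine Set.eq_univ_of_forall fun x => ?_
    induction x using QuotientGroup.induction_on with | H φ => ?_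
    rcases hL _ (M.image_valid φ (hD φ) hp) with h | h
    · exact Or.inl (M.same_coset hgen φ φ₁ (hD φ) (hD φ₁) (h.trans M e₁.symm))
    · exact Or.inr (M.same_coset hgen φ φ₂ (hD φ) (hD φ₂) (h.trans M e₂.symm))

end Model

end Cfsg.Agent.FischerAut
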