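import Cfsg.Agent.Lib.FischerAut.Model
import Cfsg.Agent.Lib.CosetEnum.Pack

/-!
A certificate for the classification of configurations of transpositions up to the group (helper71).

* `Node`, `nodeOK`, `treeOK`
* `Ctx.exists_leaf`: every valid configuration that starts like a node is equivalent to a leaf
* `Ctx.card_stab_le`: orbit lengths from the nodes
-/

set_option autoImplicit false

namespace Cfsg.Agent.FischerAut

open Cfsg.Agent.CosetEnum (lane force force_eq)

/-- map a function over a list, evaluating every value -/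
noncomputable def mapF {α : Type} (f : α → ℕ) : List α → (List ℕ → Bool) → Bool
  | [], K => K []
  | a :: l, K => force (f a) fun x => mapF f l fun xs => K (x :: xs)

theorem mapF_eq {α : Type} (f : α → ℕ) : ∀ (l : List α) (K : List ℕ → Bool), mapF f l K = K (l.map f)
  | [], _ => rfl
  | a :: l, K => by rw [mapF, force_eq, mapF_eq f l]; rfl

/-- membership in a bit mask -/
noncomputable def mbit (m i : ℕ) : Bool := Nat.beq (Nat.land (Nat.shiftRight m i) 1) 1

/-- add to a bit mask -/
noncomputable def setBit (m i : ℕ) : ℕ := Nat.lor m (Nat.shiftLeft 1 i)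

theorem mbit_iff (m i : ℕ) : mbit m i = true ↔ m.testBit i = true := by
  unfold mbit
  show Nat.beq ((m >>> i) &&& 1) 1 = true ↔ _
  rw [Nat.and_one_is_mod, Nat.testBit_eq_decide_div_mod_eq, Nat.shiftRight_eq_div_pow, decide_eq_true_eq]
  exact ⟨fun h => Nat.eq_of_beq_eq_true h, fun h => by rw [h]; rfl⟩

theorem mbit_setBit (m i j : ℕ) : mbit (setBit m i) j = true ↔ mbit m j = true ∨ j = i := by
  rw [mbit_iff, mbit_iff]
  show (m ||| (1 <<< i)).testBit j = true ↔ _
  rw [Nat.testBit_lor, Nat.one_shiftLeft, Nat.testBit_two_pow, Bool.or_eq_true, decide_eq_true_iff]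
  exact or_congr Iff.rfl eq_comm

theorem mbit_zero (i : ℕ) : mbit 0 i = false := by
  rw [← Bool.not_eq_true, mbit_iff]; simp

/-- a node of the tree: chosen points, transpositions fixing them, orbit steps, orbit representatives -/
structure Node where
  pre : List (List ℕ)
  gens : List (List ℕ)
  steps : List (ℕ × ℕ × ℕ)
  reps : List (List ℕ)
  cover : Bool

/-- apply orbit steps to a mask, each reaching a new point -/
noncomputable def runSteps (B n : ℕ) (Gs : List ℕ) : List (ℕ × ℕ × ℕ) → ℕ → (ℕ → Bool) → Bool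
  | [], m, K => K m
  | (new, gi, old) :: l, m, K => Nat.blt gi Gs.length && (Nat.blt old n && (mbit m old &&
      (!mbit m new && (Nat.beq (lane B (Gs.getD gi 0) old) new &&
        force (setBit m new) fun m' => runSteps B n Gs l m' K))))

/-- the mask of some points -/
noncomputable def maskOf : List ℕ → ℕ
  | [] => 0
  | i :: l => setBit (maskOf l) i

/-- the pattern of a candidate for position `m` -/
noncomputable def pattOK (B : ℕ) (com : ℕ → ℕ → Bool) (m : ℕ) : ℕ → List ℕ → List ℕ → ℕ → Bool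
  | b, v :: vs, p :: ps, q => !Nat.beq q p && (Nat.beq (lane B v q) q == com m b && pattOK B com m (b + 1) vs ps q)
  | _, _, _, _ => true

/-- the check of a node -/
noncomputable def nodeOK (B n : ℕ) (com : ℕ → ℕ → Bool) (V P : List ℕ → ℕ) (okw : List ℕ → Bool) (nd : Node) : Bool :=
  (nd.pre.all okw && (nd.gens.all okw && nd.reps.all okw)) &&
    mapF V nd.pre fun Vp => mapF P nd.pre fun Pp => mapF V nd.gens fun Gs => mapF P nd.reps fun Rs =>
      (Gs.all fun g => Pp.all fun p => Nat.beq (lane B g p) p) &&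
        force (maskOf Rs) fun m0 => runSteps B n Gs nd.steps m0 fun m =>
          bif nd.cover then (List.range n).all fun q => !pattOK B com nd.pre.length 0 Vp Pp q || mbit m q else true

/-- the check of the tree -/
noncomputable def treeOK (k : ℕ) (nodes : List Node) (leaves : List (List (List ℕ))) : Bool :=
  nodes.all fun nd => (Nat.blt nd.pre.length k && nd.cover) && nd.reps.all fun r =>
    bif Nat.beq (nd.pre.length + 1) k then leaves.contains (nd.pre ++ [r])
    else (nodes.map fun x => x.pre).contains (nd.pre ++ [r])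

/-- interpretation of words -/
structure Ctx {G : Type*} [Group G] {n : ℕ} (M : Model G n) (B : ℕ) (V P : List ℕ → ℕ) (okw : List ℕ → Bool) where
  pt : List ℕ → Fin n
  hP : ∀ u, okw u = true → P u = (pt u : ℕ)
  hV : ∀ u, okw u = true → ∀ i : Fin n, lane B (V u) i = (M.ρ (M.d (pt u)) i : ℕ)

namespace Ctx

variable {G : Type*} [Group G] {n : ℕ} {M : Model G n} {B : ℕ} {V P : List ℕ → ℕ} {okw : List ℕ → Bool}
  (C : Ctx M B V P okw)

theorem gen_mem {nd : Node} {g : List ℕ}
    (hpre : ∀ u ∈ nd.pre, okw u = true) (hg : okw g = true)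
    (h : ∀ p ∈ nd.pre.map P, lane B (V g) p = p) : M.d (C.pt g) ∈ M.stab (nd.pre.map C.pt) := by
  intro p hp
  obtain ⟨u, hu, rfl⟩ := List.mem_map.mp hp
  refine Fin.ext ?_
  rw [← C.hV g hg, ← C.hP u (hpre u hu)]
  exact h _ (List.mem_map.mpr ⟨u, hu, rfl⟩)

theorem runSteps_sound {nd : Node} (hpre : ∀ u ∈ nd.pre, okw u = true) (hgens : ∀ u ∈ nd.gens, okw u = true)
    (hfix : ∀ g ∈ nd.gens, ∀ p ∈ nd.pre.map P, lane B (V g) p = p) (R : Fin n → Prop) (K : ℕ → Bool)
    (hR : ∀ p, R p → ∀ g ∈ M.stab (nd.pre.map C.pt), R (M.ρ g p)) :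
    ∀ (l : List (ℕ × ℕ × ℕ)) (m : ℕ), runSteps B n (nd.gens.map V) l m K = true →
      (∀ p : Fin n, mbit m p = true → R p) →
      ∃ (m' : ℕ) (ps : List (Fin n)), K m' = true ∧ ps.length = l.length ∧ ps.Nodup ∧
        (∀ p ∈ ps, R p ∧ mbit m p = false) ∧ ∀ p : Fin n, mbit m' p = true → R p
  | [], m, h, hm => ⟨m, [], h, rfl, List.nodup_nil, by simp, hm⟩
  | (new, gi, old) :: l, m, h, hm => by
    simp only [runSteps, force_eq, Bool.and_eq_true, Nat.blt_eq, Bool.not_eq_true'] at h
    obtain ⟨hgi, hold, hmo, hmn, hnew, hrec⟩ := h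
    rw [List.length_map] at hgi
    have hnew' := Nat.eq_of_beq_eq_true hnew
    rw [List.getD_eq_getElem _ _ (by rw [List.length_map]; exact hgi), List.getElem_map] at hnew'
    set g := nd.gens[gi]
    have hgmem : g ∈ nd.gens := List.getElem_mem _
    rw [C.hV g (hgens g hgmem) ⟨old, hold⟩] at hnew'
    set p := M.ρ (M.d (C.pt g)) ⟨old, hold⟩
    have hp : R p := hR _ (hm ⟨old, hold⟩ hmo) _ (C.gen_mem hpre (hgens g hgmem) (hfix g hgmem))
    obtain ⟨m', ps, h1, h2, h3, h4, h5⟩ := runSteps_sound hpre hgens hfix R K hR l (setBit m new) hrec (fun x hx => by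
      rcases (mbit_setBit m new x).mp hx with h | h
      · exact hm x h
      · rwa [show x = p from Fin.ext (h.trans hnew'.symm)])
    refine ⟨m', p :: ps, h1, by simp [h2], List.nodup_cons.mpr ⟨fun hmem => ?_, h3⟩, ?_, h5⟩
    · have hf := (h4 p hmem).2
      rw [(mbit_setBit m new p).mpr (Or.inr hnew')] at hf
      exact Bool.false_ne_true hf.symm
    · intro x hx
      rcases List.mem_cons.mp hx with rfl | hx
      · exact ⟨hp, by rw [hnew']; exact hmn⟩
      · refine ⟨(h4 x hx).1, ?_⟩
        by_contra hb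
        rw [Bool.not_eq_false] at hb
        have hf := (h4 x hx).2
        rw [(mbit_setBit m new x).mpr (Or.inl hb)] at hf
        exact Bool.false_ne_true hf.symm

theorem maskOf_iff : ∀ (l : List ℕ) (i : ℕ), mbit (maskOf l) i = true ↔ i ∈ l
  | [], i => by simp [maskOf, mbit_zero]
  | j :: l, i => by rw [maskOf, mbit_setBit, maskOf_iff l, List.mem_cons]; tauto

theorem node_spec (com : ℕ → ℕ → Bool) {nd : Node} (h : nodeOK B n com V P okw nd = true) :
    (nd.cover = true → ∀ q : Fin n, pattOK B com nd.pre.length 0 (nd.pre.map V) (nd.pre.map P) q = true →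
      ∃ r ∈ nd.reps, ∃ g ∈ M.stab (nd.pre.map C.pt), M.ρ g (C.pt r) = q) ∧
    ∀ r, nd.reps = [r] → ∃ ps : List (Fin n), ps.Nodup ∧ ps.length = nd.steps.length + 1 ∧
      ∀ p ∈ ps, ∃ g ∈ M.stab (nd.pre.map C.pt), M.ρ g (C.pt r) = p := by
  simp only [nodeOK, mapF_eq, force_eq, Bool.and_eq_true, List.all_eq_true] at h
  obtain ⟨⟨hpre, hgens, hreps⟩, hfix, hrun⟩ := h
  have hfix' : ∀ g ∈ nd.gens, ∀ p ∈ nd.pre.map P, lane B (V g) p = p := fun g hg p hp =>
    Nat.eq_of_beq_eq_true (hfix _ (List.mem_map.mpr ⟨g, hg, rfl⟩) p hp)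
  let R : Fin n → Prop := fun p => ∃ r ∈ nd.reps, ∃ g ∈ M.stab (nd.pre.map C.pt), M.ρ g (C.pt r) = p
  have hR : ∀ p, R p → ∀ g ∈ M.stab (nd.pre.map C.pt), R (M.ρ g p) := by
    rintro p ⟨r, hr, g', hg', rfl⟩ g hg
    exact ⟨r, hr, g * g', mul_mem hg hg', by rw [map_mul, Equiv.Perm.mul_apply]⟩
  obtain ⟨m', ps, hK, hlen, hnd, hps, hm'⟩ := C.runSteps_sound hpre hgens hfix' R _ hR nd.steps _ hrun
    (fun p hp => by
      obtain ⟨r, hr, e⟩ := List.mem_map.mp ((maskOf_iff _ _).mp hp)
      rw [C.hP r (hreps r hr)] at e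
      exact ⟨r, hr, 1, one_mem _, by rw [map_one, Equiv.Perm.one_apply]; exact Fin.ext e⟩)
  refine ⟨fun hc q hq => ?_, fun r hr => ⟨C.pt r :: ps, List.nodup_cons.mpr ⟨fun hmem => ?_, hnd⟩, by simp [hlen], ?_⟩⟩
  · rw [hc, cond_true] at hK
    have := (List.all_eq_true.mp hK) q (List.mem_range.mpr q.2)
    rw [hq] at this
    exact hm' q (by simpa using this)
  · have := (hps _ hmem).2
    rw [(maskOf_iff _ _).mpr (List.mem_map.mpr ⟨r, by simp [hr], C.hP r (hreps r (by simp [hr]))⟩)] at this
    exact Bool.false_ne_true this.symm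
  · intro p hp
    rcases List.mem_cons.mp hp with rfl | hp
    · exact ⟨1, one_mem _, by simp⟩
    · obtain ⟨r', hr', g, hg, e⟩ := (hps p hp).1
      rw [hr, List.mem_singleton] at hr'
      subst hr'
      exact ⟨g, hg, e⟩

theorem patt_of_valid (com : ℕ → ℕ → Bool) (m : ℕ) (x : Fin n) :
    ∀ (us : List (List ℕ)) (b : ℕ), (∀ u ∈ us, okw u = true) →
      (∀ j (hj : j < us.length), x ≠ C.pt us[j] ∧ (M.Adj (C.pt us[j]) x ↔ com m (b + j) = true)) →
      pattOK B com m b (us.map V) (us.map P) x = true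
  | [], _, _, _ => rfl
  | u :: us, b, hok, h => by
    have h0 := h 0 (Nat.succ_pos _)
    simp only [List.getElem_cons_zero, Nat.add_zero] at h0
    have hu := hok u (by simp)
    have hlane : Nat.beq (lane B (V u) x) x = com m b := by
      rw [C.hV u hu x, Bool.eq_iff_iff, ← h0.2]
      exact ⟨fun e => Fin.ext (Nat.eq_of_beq_eq_true e), fun e => by rw [e]; exact Nat.beq_refl _⟩
    simp only [List.map_cons, pattOK, Bool.and_eq_true, Bool.not_eq_true', hlane, beq_self_eq_true, true_and]
    refine ⟨?_, patt_of_valid com m x us (b + 1) (fun v hv => hok v (List.mem_cons_of_mem u hv)) ?_⟩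
    · rw [← Bool.not_eq_true]
      intro e
      exact h0.1 (Fin.ext ((Nat.eq_of_beq_eq_true e).trans (C.hP u hu)))
    · intro j hj
      have := h (j + 1) (Nat.succ_lt_succ hj)
      simpa [Nat.add_assoc, Nat.add_comm 1 j] using this

/-- every valid configuration starting like a node is equivalent to a leaf -/
theorem exists_leaf (com : ℕ → ℕ → Bool) (k : ℕ) (nodes : List Node) (leaves : List (List (List ℕ)))
    (hn : ∀ nd ∈ nodes, nodeOK B n com V P okw nd = true) (ht : treeOK k nodes leaves = true)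
    {nd : Node} (hnd : nd ∈ nodes) {q : ℕ → Fin n} (hq : M.Valid com k q)
    (hag : ∀ b (hb : b < nd.pre.length), q b = C.pt nd.pre[b]) :
    ∃ L ∈ leaves, L.length = k ∧ M.Equiv' k q (fun a => C.pt (L.getD a [])) := by
  simp only [treeOK, List.all_eq_true, Bool.and_eq_true, Nat.blt_eq] at ht
  suffices H : ∀ (j : ℕ) (nd : Node), nd ∈ nodes → k ≤ nd.pre.length + j → ∀ q : ℕ → Fin n, M.Valid com k q →
      (∀ b (hb : b < nd.pre.length), q b = C.pt nd.pre[b]) →
      ∃ L ∈ leaves, L.length = k ∧ M.Equiv' k q (fun a => C.pt (L.getD a [])) from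
    H k nd hnd (Nat.le_add_left _ _) q hq hag
  intro j
  induction j with
  | zero => intro nd hnd hle; exact absurd (ht nd hnd).1.1 (by omega)
  | succ j ih =>
    intro nd hnd hle q hq hag
    have hm := (ht nd hnd).1.1
    have hok : ∀ u ∈ nd.pre, okw u = true := by
      have h := hn nd hnd
      simp only [nodeOK, Bool.and_eq_true, List.all_eq_true] at h
      exact h.1.1
    have hp := C.patt_of_valid com nd.pre.length (q nd.pre.length) nd.pre 0 hok (fun i hi => by
      have := hq nd.pre.length hm i hi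
      rw [hag i hi] at this
      rw [Nat.zero_add]
      exact this)
    obtain ⟨r, hr, g, hg, hgr⟩ := (C.node_spec com (hn nd hnd)).1 (ht nd hnd).1.2 _ hp
    have hnext := (ht nd hnd).2 r hr
    let q' : ℕ → Fin n := fun a => M.ρ g⁻¹ (q a)
    have hag' : ∀ b (hb : b < (nd.pre ++ [r]).length), q' b = C.pt (nd.pre ++ [r])[b] := by
      intro b hb
      show M.ρ g⁻¹ (q b) = _
      rcases Nat.lt_or_ge b nd.pre.length with h | h
      · rw [List.getElem_append_left h, hag b h]
        exact (M.mem_stab.mp (inv_mem hg)) _ (List.mem_map.mpr ⟨_, List.getElem_mem _, rfl⟩)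
      · have : b = nd.pre.length := by simp at hb; omega
        subst this
        rw [List.getElem_append_right h]
        simp only [Nat.sub_self, List.getElem_cons_zero]
        rw [← hgr, map_inv]
        exact (M.ρ g).symm_apply_apply _
    have hq' : M.Valid com k q' := hq.map M g⁻¹
    have heq : M.Equiv' k q q' := ⟨g⁻¹, fun _ _ => rfl⟩
    by_cases hk : nd.pre.length + 1 = k
    · have hlen : Nat.beq (nd.pre.length + 1) k = true := by rw [hk]; exact Nat.beq_refl _
      rw [hlen, cond_true, List.contains_iff_mem] at hnext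
      refine ⟨_, hnext, by simp [hk], heq.trans M ⟨1, fun a ha => ?_⟩⟩
      rw [map_one, Equiv.Perm.one_apply, hag' a (by simp; omega)]
      show _ = C.pt ((nd.pre ++ [r]).getD a [])
      rw [List.getD_eq_getElem _ _ (by simp; omega)]
    · have hlen : Nat.beq (nd.pre.length + 1) k = false := by
        rw [← Bool.not_eq_true]; exact fun e => hk (Nat.eq_of_beq_eq_true e)
      rw [hlen, cond_false, List.contains_iff_mem, List.mem_map] at hnext
      obtain ⟨nd', hnd', e⟩ := hnext
      have hl : nd'.pre.length = nd.pre.length + 1 := by rw [e]; simp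
      obtain ⟨L, hL, hLk, hLq⟩ := ih nd' hnd' (by omega) q' hq' (fun b hb => by
        have := hag' b (e ▸ hb)
        simp only [← e] at this
        exact this)
      exact ⟨L, hL, hLk, heq.trans M hLq⟩

/-- the stabiliser of a node is at least the orbit times the stabiliser of the child -/
theorem card_stab_le [Finite G] (com : ℕ → ℕ → Bool) {nd : Node} (h : nodeOK B n com V P okw nd = true)
    {r : List ℕ} (hr : nd.reps = [r]) :
    (nd.steps.length + 1) * Nat.card (M.stab ((nd.pre ++ [r]).map C.pt)) ≤ Nat.card (M.stab (nd.pre.map C.pt)) := by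
  obtain ⟨ps, h1, h2, h3⟩ := (C.node_spec com h).2 r hr
  rw [← h2, List.map_append, List.map_cons, List.map_nil]
  exact M.mul_card_stab_le _ _ ps h1 h3

end Ctx

end Cfsg.Agent.FischerAut
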