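import Cfsg.Agent.EqLemmas

/-!
Groups acting on a class of transpositions (helper71).

* `Model`: a transitive action with an equivariant injection of the points into the group
* `Model.Valid`: configurations of points with prescribed commuting pairs
* `Model.stab`: pointwise stabilisers, `Model.mul_card_stab_le`
-/

set_option autoImplicit false

namespace Cfsg.Agent.FischerAut

/-- a group with a class of elements indexed by the points it permutes -/
structure Model (G : Type*) [Group G] (n : ℕ) where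
  ρ : G →* Equiv.Perm (Fin n)
  d : Fin n → G
  trans : ∀ i j, ∃ g, ρ g i = j
  conj : ∀ g i, d (ρ g i) = g * d i * g⁻¹
  inj : Function.Injective d

namespace Model

variable {G : Type*} [Group G] {n : ℕ} (M : Model G n)

theorem self_fix (i : Fin n) : M.ρ (M.d i) i = i :=
  M.inj (by rw [M.conj]; group)

/-- the two transpositions commute -/
def Adj (i j : Fin n) : Prop := M.ρ (M.d i) j = j

theorem adj_iff (i j : Fin n) : M.Adj i j ↔ Commute (M.d i) (M.d j) := by
  unfold Adj
  rw [← M.inj.eq_iff, M.conj, mul_inv_eq_iff_eq_mul]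
  exact Iff.rfl

theorem adj_map (g : G) (i j : Fin n) : M.Adj (M.ρ g i) (M.ρ g j) ↔ M.Adj i j := by
  rw [adj_iff, adj_iff, M.conj, M.conj]
  exact Commute.conj_iff g

theorem commute_of_fix {g : G} {i : Fin n} (h : M.ρ g i = i) : Commute g (M.d i) := by
  have := M.conj g i
  rw [h] at this
  show g * M.d i = M.d i * g
  conv_rhs => rw [this]
  group

/-- a configuration with prescribed commuting pairs -/
def Valid (com : ℕ → ℕ → Bool) (k : ℕ) (q : ℕ → Fin n) : Prop :=
  ∀ a < k, ∀ b < a, q a ≠ q b ∧ (M.Adj (q b) (q a) ↔ com a b = true)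

theorem Valid.map {com : ℕ → ℕ → Bool} {k : ℕ} {q : ℕ → Fin n} (h : M.Valid com k q) (g : G) :
    M.Valid com k (fun a => M.ρ g (q a)) := fun a ha b hb =>
  ⟨fun e => (h a ha b hb).1 ((M.ρ g).injective e), (M.adj_map g _ _).trans (h a ha b hb).2⟩

/-- the configurations `q` and `r` are equivalent under the group -/
def Equiv' (k : ℕ) (q r : ℕ → Fin n) : Prop := ∃ g, ∀ a < k, M.ρ g (q a) = r a

theorem Equiv'.symm {k : ℕ} {q r : ℕ → Fin n} (h : M.Equiv' k q r) : M.Equiv' k r q := by
  obtain ⟨g, hg⟩ := h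
  exact ⟨g⁻¹, fun a ha => by rw [← hg a ha, map_inv]; exact (M.ρ g).symm_apply_apply _⟩

theorem Equiv'.trans {k : ℕ} {p q r : ℕ → Fin n} (h : M.Equiv' k p q) (h' : M.Equiv' k q r) : M.Equiv' k p r := by
  obtain ⟨g, hg⟩ := h
  obtain ⟨g', hg'⟩ := h'
  exact ⟨g' * g, fun a ha => by rw [map_mul, Equiv.Perm.mul_apply, hg a ha, hg' a ha]⟩

/-- the pointwise stabiliser of some points -/
def stab (s : List (Fin n)) : Subgroup G where
  carrier := {g | ∀ p ∈ s, M.ρ g p = p}
  one_mem' := fun p _ => by simp
  mul_mem' := fun {a b} ha hb p hp => by rw [map_mul, Equiv.Perm.mul_apply, hb p hp, ha p hp]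
  inv_mem' := fun {a} ha p hp => by
    rw [map_inv, Equiv.Perm.inv_eq_iff_eq]
    exact (ha p hp).symm

theorem mem_stab {s : List (Fin n)} {g : G} : g ∈ M.stab s ↔ ∀ p ∈ s, M.ρ g p = p := Iff.rfl

theorem stab_nil : M.stab [] = ⊤ := by ext g; simp [mem_stab]

/-- a lower bound for a stabiliser from a set inside an orbit -/
theorem mul_card_stab_le [Finite G] (s : List (Fin n)) (r : Fin n) (ps : List (Fin n)) (hnd : ps.Nodup)
    (h : ∀ p ∈ ps, ∃ g ∈ M.stab s, M.ρ g r = p) :
    ps.length * Nat.card (M.stab (s ++ [r])) ≤ Nat.card (M.stab s) := by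
  choose g hg hgr using h
  have hsub : ∀ x : M.stab (s ++ [r]), (x : G) ∈ M.stab s :=
    fun x => fun p hp => x.2 p (List.mem_append_left _ hp)
  let f : Fin ps.length × M.stab (s ++ [r]) → M.stab s := fun y =>
    ⟨g ps[y.1] (List.getElem_mem _) * (y.2 : G), mul_mem (hg _ _) (hsub y.2)⟩
  have hf : Function.Injective f := by
    rintro ⟨i, x⟩ ⟨j, y⟩ hxy
    have hxy' : g ps[i] (List.getElem_mem _) * (x : G) = g ps[j] (List.getElem_mem _) * (y : G) :=
      congrArg Subtype.val hxy
    have hx : M.ρ (x : G) r = r := x.2 r (by simp)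
    have hy : M.ρ (y : G) r = r := y.2 r (by simp)
    have := congrArg (fun z => M.ρ z r) hxy'
    simp only [map_mul, Equiv.Perm.mul_apply, hx, hy, hgr] at this
    have hij : i = j := Fin.ext ((List.Nodup.getElem_inj_iff hnd).mp this)
    subst hij
    exact Prod.ext rfl (Subtype.ext (mul_left_cancel hxy'))
  have := Nat.card_le_card_of_injective f hf
  rwa [Nat.card_prod, Nat.card_fin] at this

end Model

end Cfsg.Agent.FischerAut
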